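import Mathlib

/-! Pairs of `p`-elements of a symmetric group generating a non-solvable group: the core case of a long cycle. -/

set_option autoImplicit false
set_option linter.style.haveILetI false

namespace H82.AF
open Equiv Subgroup Polynomial
open scoped commutatorElement

theorem poly_pow (p : ℕ) [Fact p.Prime] (c : ℕ) : ((X - 1 : (ZMod p)[X])) ^ p ^ c = X ^ p ^ c - 1 := by
  rw [sub_pow_char_pow, one_pow]

theorem poly_geom (p : ℕ) [Fact p.Prime] (c : ℕ) :
    ∑ i ∈ Finset.range (p ^ c), (X : (ZMod p)[X]) ^ i = (X - 1) ^ (p ^ c - 1) := by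
  have h0 : (X - 1 : (ZMod p)[X]) ≠ 0 := by simpa using X_sub_C_ne_zero (1 : ZMod p)
  have h1 : 1 ≤ p ^ c := Nat.one_le_pow _ _ (Fact.out : p.Prime).pos
  apply mul_right_cancel₀ h0
  rw [geom_sum_mul, ← poly_pow, ← pow_succ, Nat.sub_add_cancel h1]

theorem lin {p : ℕ} [Fact p.Prime] {V : Type*} [AddCommGroup V] [Module (ZMod p) V] [Finite V] {a c : ℕ}
    (hV : Nat.card V = p ^ a) (φ : Module.End (ZMod p) V) (h : φ ^ p ^ c = 1) : (φ - 1) ^ a = 0 := by
  have hp : p.Prime := Fact.out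
  haveI : Module.Finite (ZMod p) V := Module.Finite.of_finite
  have hr : Module.finrank (ZMod p) V = a := by
    have := Module.natCard_eq_pow_finrank (K := ZMod p) (V := V)
    rw [hV, Nat.card_zmod] at this
    exact (Nat.pow_right_injective hp.two_le this).symm
  have hn : IsNilpotent (φ - 1) := ⟨p ^ c, by
    have := congrArg (aeval φ) (poly_pow p c)
    simpa [h] using this⟩
  have := LinearMap.aeval_self_charpoly (φ - 1)
  rwa [hn.charpoly_eq_X_pow_finrank, hr, map_pow, aeval_X] at this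

theorem geom {p : ℕ} [Fact p.Prime] {V : Type*} [AddCommGroup V] [Module (ZMod p) V]
    (φ : Module.End (ZMod p) V) (c : ℕ) : ∑ i ∈ Finset.range (p ^ c), φ ^ i = (φ - 1) ^ (p ^ c - 1) := by
  have := congrArg (aeval φ) (poly_geom p c)
  simpa [map_sum] using this

theorem lin'' {p : ℕ} [Fact p.Prime] {V : Type*} [AddCommGroup V] [Module (ZMod p) V] [Finite V] {a c : ℕ}
    (hV : Nat.card V = p ^ a) (f : V →+ V) (h : ∀ x, f^[p ^ c] x = x) :
    (∀ j, a < p ^ j → ∀ x, ∑ i ∈ Finset.range (p ^ j), f^[i] x = 0) ∧ (a = 1 → ∀ x, f x = x) := by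
  let φ : Module.End (ZMod p) V := f.toZModLinearMap p
  have hφ : ∀ (i : ℕ) (x : V), (φ ^ i) x = f^[i] x := fun i x => Module.End.pow_apply φ i x
  have h2 := lin hV φ (c := c) (LinearMap.ext fun x => by rw [hφ, h]; rfl)
  refine ⟨fun j hj x => ?_, fun ha x => ?_⟩
  · have := congrArg (fun ψ : Module.End (ZMod p) V => ψ x) (geom φ j)
    rw [pow_eq_zero_of_le (by omega) h2] at this
    simpa [LinearMap.sum_apply, hφ] using this
  · rw [ha, pow_one, sub_eq_zero] at h2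
    exact congrArg (fun ψ : Module.End (ZMod p) V => ψ x) h2

theorem lin' {p : ℕ} [Fact p.Prime] {V : Type*} [AddCommGroup V] [Finite V] {a c : ℕ} (he : ∀ x : V, p • x = 0)
    (hV : Nat.card V = p ^ a) (f : V →+ V) (h : ∀ x, f^[p ^ c] x = x) :
    (∀ j, a < p ^ j → ∀ x, ∑ i ∈ Finset.range (p ^ j), f^[i] x = 0) ∧ (a = 1 → ∀ x, f x = x) :=
  @lin'' p _ V _ (AddCommGroup.zmodModule he) _ a c hV f h

variable {β : Type*}

/-- `p`-elements normalising a regular elementary abelian group -/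
theorem aff [Finite β] {p a c : ℕ} [Fact p.Prime] (hβ : Nat.card β = p ^ a) (N : Subgroup (Perm β))
    (hc : ∀ x ∈ N, ∀ y ∈ N, x * y = y * x) (he : ∀ x ∈ N, x ^ p = 1) (ht : ∀ x y : β, ∃ n ∈ N, n x = y)
    {g : Perm β} (hg : ∀ n ∈ N, g * n * g⁻¹ ∈ N) (hgp : g ^ p ^ c = 1) :
    (∀ j, a < p ^ j → g ^ p ^ j = 1) ∧ (a = 1 → g ∈ N) := by
  have hp : p.Prime := Fact.out
  have hne : Nonempty β := by
    have : 0 < Nat.card β := hβ ▸ pow_pos hp.pos a
    exact (Nat.card_pos_iff.1 this).1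
  have free : ∀ (x : β) (n : Perm β), (∀ m ∈ N, n * m = m * n) → n x = x → n = 1 := fun x n hn hx => by
    ext y
    obtain ⟨m, hm, rfl⟩ := ht x y
    rw [← Perm.mul_apply, hn m hm, Perm.mul_apply, hx, Perm.one_apply]
  obtain ⟨x0⟩ := hne
  have hN : Nat.card N = p ^ a := by
    rw [← hβ]
    refine Nat.card_eq_of_bijective (fun n : N => n.1 x0) ⟨fun n m e => ?_, fun y => ?_⟩
    · have : (m.1⁻¹ * n.1) = 1 := free x0 _ (hc _ (N.mul_mem (N.inv_mem m.2) n.2)) (by
        simp only at e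
        rw [Perm.mul_apply, e]; simp)
      exact Subtype.ext (inv_mul_eq_one.1 this).symm
    · obtain ⟨n, hn, e⟩ := ht x0 y
      exact ⟨⟨n, hn⟩, e⟩
  letI : CommGroup N := { (inferInstance : Group N) with mul_comm := fun x y => Subtype.ext (hc _ x.2 _ y.2) }
  let f : Additive N →+ Additive N := AddMonoidHom.mk'
    (fun n => Additive.ofMul ⟨g * n.toMul.1 * g⁻¹, hg _ n.toMul.2⟩) fun x y => by
      apply Additive.toMul.injective
      apply Subtype.ext
      simp [mul_assoc]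
  have hφ : ∀ (i : ℕ) (n : Additive N), (f^[i] n).toMul.1 = g ^ i * n.toMul.1 * (g ^ i)⁻¹ := fun i => by
    induction i with
    | zero => intro n; simp
    | succ i ih =>
      intro n
      rw [Function.iterate_succ_apply']
      show g * (f^[i] n).toMul.1 * g⁻¹ = _
      rw [ih, pow_succ']; group
  have h2 := lin' (V := Additive N) (c := c) (fun x => by
    apply Additive.toMul.injective
    exact Subtype.ext (by simpa using he _ x.toMul.2)) hN f (fun n => by
      apply Additive.toMul.injective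
      apply Subtype.ext
      rw [hφ, hgp]; simp)
  refine ⟨fun j hj => ?_, fun ha => ?_⟩
  · ext x
    obtain ⟨n, hn, e⟩ := ht x (g x)
    have key : ∀ k : ℕ, (g ^ k) x = (∑ i ∈ Finset.range k, f^[i] (Additive.ofMul ⟨n, hn⟩)).toMul.1 x := fun k => by
      induction k with
      | zero => simp
      | succ k ih =>
        rw [Finset.sum_range_succ, add_comm (∑ i ∈ Finset.range k, _), toMul_add, Subgroup.coe_mul, Perm.mul_apply, ← ih,
          hφ, pow_succ, Perm.mul_apply, ← e]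
        simp
    rw [key, h2.1 j hj]
    simp
  · obtain ⟨n, hn, e⟩ := ht x0 (g x0)
    have hcm : ∀ m ∈ N, g * m = m * g := fun m hm => by
      have := hφ 1 (Additive.ofMul ⟨m, hm⟩)
      rw [pow_one, Function.iterate_one, h2.2 ha] at this
      exact (mul_inv_eq_iff_eq_mul.1 this.symm)
    have : n⁻¹ * g = 1 := free x0 _ (fun m hm => by
      rw [mul_assoc, hcm m hm, ← mul_assoc, hc _ (N.inv_mem hn) _ hm, mul_assoc]) (by
        rw [Perm.mul_apply, ← e]; simp)
    rw [← inv_mul_eq_one.1 this]; exact hn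

/-- a solvable group has an elementary abelian normal subgroup -/
theorem exists_ab {G : Type*} [Group G] [Finite G] (H : Subgroup G) [Group.IsSolvable H] (hH : H ≠ ⊥) :
    ∃ N : Subgroup G, N ≠ ⊥ ∧ (∀ g ∈ H, ∀ n ∈ N, g * n * g⁻¹ ∈ N) ∧ (∀ x ∈ N, ∀ y ∈ N, x * y = y * x) ∧
      ∃ q : ℕ, q.Prime ∧ ∀ x ∈ N, x ^ q = 1 := by
  classical
  obtain ⟨k, hk⟩ := (inferInstance : Group.IsSolvable H).1
  have ex : ∃ k, derivedSeries H k = ⊥ := ⟨k, hk⟩
  have h0 : Nat.find ex ≠ 0 := fun e => by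
    have := Nat.find_spec ex
    rw [e, derivedSeries_zero] at this
    apply hH
    rw [eq_bot_iff]
    intro x hx
    have : (⟨x, hx⟩ : H) ∈ (⊥ : Subgroup H) := this ▸ mem_top _
    exact congrArg Subtype.val (mem_bot.1 this)
  obtain ⟨j, hj⟩ := Nat.exists_eq_succ_of_ne_zero h0
  have h1 := Nat.find_spec ex
  have h2 : derivedSeries H j ≠ ⊥ := Nat.find_min ex (by omega)
  rw [hj, derivedSeries_succ] at h1
  have hn := derivedSeries_normal H j
  set A := derivedSeries H j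
  have hc : ∀ x ∈ A, ∀ y ∈ A, x * y = y * x := fun x hx y hy => by
    have : ⁅x, y⁆ ∈ (⊥ : Subgroup H) := h1 ▸ commutator_mem_commutator hx hy
    exact commutatorElement_eq_one_iff_mul_comm.1 (mem_bot.1 this)
  obtain ⟨⟨x, hx⟩, hx1⟩ := (ne_bot_iff_exists_ne_one.1 h2)
  have hx1' : x ≠ 1 := fun e => hx1 (Subtype.ext e)
  obtain ⟨q, hq, hd⟩ := Nat.exists_prime_and_dvd (n := orderOf x) (by simpa using hx1')
  let B : Subgroup H :=
    { carrier := {y | y ∈ A ∧ y ^ q = 1}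
      one_mem' := ⟨A.one_mem, one_pow _⟩
      mul_mem' := fun {y z} hy hz => ⟨A.mul_mem hy.1 hz.1, by
        rw [Commute.mul_pow (hc _ hy.1 _ hz.1), hy.2, hz.2, one_mul]⟩
      inv_mem' := fun {y} hy => ⟨A.inv_mem hy.1, by rw [inv_pow, hy.2, inv_one]⟩ }
  refine ⟨B.map H.subtype, fun e => ?_, ?_, ?_, q, hq, ?_⟩
  · have hy : orderOf (x ^ (orderOf x / q)) = q := orderOf_pow_orderOf_div (orderOf_pos x).ne' hd
    have hb : x ^ (orderOf x / q) ∈ B := ⟨A.pow_mem hx _, by have := pow_orderOf_eq_one (x ^ (orderOf x / q)); rwa [hy] at this⟩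
    have : (x ^ (orderOf x / q)).1 ∈ (⊥ : Subgroup G) := e ▸ ⟨_, hb, rfl⟩
    have h3 : x ^ (orderOf x / q) = 1 := Subtype.ext (mem_bot.1 this)
    rw [h3, orderOf_one] at hy
    exact hq.one_lt.ne hy
  · rintro g hg _ ⟨n, hn', rfl⟩
    exact ⟨⟨g, hg⟩ * n * ⟨g, hg⟩⁻¹, ⟨hn.conj_mem _ hn'.1 _, by rw [conj_pow, hn'.2]; simp⟩, rfl⟩
  · rintro _ ⟨y, hy, rfl⟩ _ ⟨z, hz, rfl⟩
    exact congrArg Subtype.val (hc _ hy.1 _ hz.1)
  · rintro _ ⟨y, hy, rfl⟩
    exact congrArg Subtype.val hy.2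

/-- the conclusion for one pair -/
def Good {G : Type*} [Group G] (p : ℕ) (u w : G) : Prop :=
  (¬ ∃ k : ℕ, orderOf (u * w) = p ^ k) ∧ ¬ Group.IsSolvable (closure ({u, w} : Set G))

theorem not_p {p : ℕ} (hp : Odd p) {g : Perm β} {x y : β} (hxy : x ≠ y) (h1 : g x = y) (h2 : g y = x) :
    ¬ ∃ k : ℕ, orderOf g = p ^ k := by
  rintro ⟨k, hk⟩
  obtain ⟨j, hj⟩ := hp.pow (n := k)
  have : ∀ j : ℕ, (g ^ (2 * j + 1)) x = y := fun j => by
    induction j with
    | zero => simpa using h1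
    | succ j ih => rw [show 2 * (j + 1) + 1 = 1 + 1 + (2 * j + 1) by ring, pow_add, pow_add]; simp [ih, h1, h2]
  have h3 := this j
  rw [← hj, ← hk, pow_orderOf_eq_one] at h3
  exact hxy h3

theorem core {p a c : ℕ} [Fact p.Prime] (hp2 : Odd p) (ha : 1 ≤ a) [NeZero (p ^ a)] (w : Perm (ZMod (p ^ a)))
    (hw : w ^ p ^ c = 1) (hnp : ¬ ∃ k : ℕ, orderOf (Equiv.addRight (1 : ZMod (p ^ a)) * w) = p ^ k)
    (h3 : a = 1 ∨ ∃ e : ZMod (p ^ a), IsUnit (w (e + (p ^ (a - 1) : ℕ)) - w e)) :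
    Good p (Equiv.addRight (1 : ZMod (p ^ a))) w := by
  have hp : p.Prime := Fact.out
  set u : Perm (ZMod (p ^ a)) := Equiv.addRight 1 with hu
  have upow : ∀ (k : ℕ) (z : ZMod (p ^ a)), (u ^ k) z = z + k := fun k => by
    induction k with
    | zero => simp
    | succ k ih => intro z; rw [pow_succ', Perm.mul_apply, ih]; simp [hu, add_assoc]
  refine ⟨hnp, fun hs => ?_⟩
  set H := closure ({u, w} : Set (Perm (ZMod (p ^ a))))
  have huH : u ∈ H := subset_closure (by simp)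
  have hwH : w ∈ H := subset_closure (by simp)
  obtain ⟨N, hN, hn, hc, q, hq, he⟩ := exists_ab H (fun e => by
    apply hnp
    rw [e] at huH hwH
    exact ⟨0, by rw [mem_bot.1 huH, mem_bot.1 hwH]; simp⟩)
  -- the relation of lying in one `N`-orbit
  have inv : ∀ g ∈ H, ∀ s t, (∃ n ∈ N, n s = t) → ∃ n ∈ N, n (g s) = g t := by
    rintro g hg s t ⟨n, hnN, rfl⟩
    exact ⟨_, hn g hg n hnN, by simp⟩
  have sh : ∀ d s t : ZMod (p ^ a), (∃ n ∈ N, n s = t) → ∃ n ∈ N, n (s + d) = t + d := fun d s t h => by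
    have := inv _ (H.pow_mem huH d.val) s t h
    rwa [upow, upow, ZMod.natCast_zmod_val] at this
  have mul : ∀ d : ZMod (p ^ a), (∃ s, ∃ n ∈ N, n s = s + d) → ∀ (r s : ZMod (p ^ a)), ∃ n ∈ N, n s = s + r * d := by
    rintro d ⟨s0, h0⟩ r s
    rw [← ZMod.natCast_zmod_val r]
    induction r.val with
    | zero => exact ⟨1, N.one_mem, by simp⟩
    | succ k ih =>
      obtain ⟨n, hnN, e⟩ := ih
      obtain ⟨m, hm, e'⟩ := sh (s + k * d - s0) _ _ h0
      refine ⟨m * n, N.mul_mem hm hnN, ?_⟩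
      rw [Perm.mul_apply, e, show s + k * d = s0 + (s + k * d - s0) by ring, e']
      push_cast; ring
  obtain ⟨⟨n0, hn0⟩, hn1⟩ := ne_bot_iff_exists_ne_one.1 hN
  obtain ⟨s0, hs0⟩ : ∃ s, n0 s ≠ s := by
    by_contra h
    exact hn1 (Subtype.ext (Equiv.ext fun s => not_not.1 fun e => h ⟨s, e⟩))
  have hd : ∀ s, ∃ n ∈ N, n s = s + (p ^ (a - 1) : ℕ) := fun s => by
    set d := n0 s0 - s0
    have d0 : d ≠ 0 := sub_ne_zero.2 hs0
    have hg : Nat.gcd d.val (p ^ a) ∣ p ^ (a - 1) := by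
      obtain ⟨i, hi, e⟩ := (Nat.dvd_prime_pow hp).1 (Nat.gcd_dvd_right d.val (p ^ a))
      rw [e]
      refine pow_dvd_pow _ ?_
      by_contra h
      have : i = a := by omega
      have h4 : p ^ a ∣ d.val := by
        have h5 := Nat.gcd_dvd_left d.val (p ^ a)
        rwa [e, this] at h5
      exact d0 ((ZMod.val_eq_zero d).1 (Nat.eq_zero_of_dvd_of_lt h4 d.val_lt))
    obtain ⟨k, hk⟩ := hg
    have hb := Nat.gcd_eq_gcd_ab d.val (p ^ a)
    have hb' : ((Nat.gcd d.val (p ^ a) : ℕ) : ZMod (p ^ a)) = (Nat.gcdA d.val (p ^ a) : ℤ) * d := by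
      have := congrArg (Int.cast : ℤ → ZMod (p ^ a)) hb
      rw [Int.cast_natCast, Int.cast_add, Int.cast_mul, Int.cast_mul, Int.cast_natCast, Int.cast_natCast,
        ZMod.natCast_self, ZMod.natCast_zmod_val] at this
      rw [this]; ring
    have := mul d ⟨s0, n0, hn0, by simp [d]⟩ (k * (Nat.gcdA d.val (p ^ a) : ℤ)) s
    rwa [mul_assoc, ← hb', ← Nat.cast_mul, mul_comm k, ← hk] at this
  have ht : ∀ s t, ∃ n ∈ N, n s = t := fun s t => by
    have : ∃ d : ZMod (p ^ a), IsUnit d ∧ ∃ s, ∃ n ∈ N, n s = s + d := by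
      rcases h3 with h | ⟨e, h⟩
      · exact ⟨_, by simp [h], 0, hd 0⟩
      · exact ⟨_, h, w e, by simpa using inv w hwH _ _ (hd e)⟩
    obtain ⟨d, ⟨v, rfl⟩, h⟩ := this
    simpa using mul v h ((t - s) * (v⁻¹ : (ZMod (p ^ a))ˣ)) s
  have hup : u ^ p ^ a = 1 := by
    ext z; rw [upow, ZMod.natCast_self]; simp
  -- the prime is `p`
  have hqp : q = p := by
    classical
    have hq' : IsPGroup q N := fun g => ⟨1, Subtype.ext (by simpa using he _ g.2)⟩
    haveI := Fact.mk hq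
    haveI : MulAction.IsPretransitive N (ZMod (p ^ a)) := ⟨fun s t => by
      obtain ⟨n, h, e⟩ := ht s t
      exact ⟨⟨n, h⟩, e⟩⟩
    obtain ⟨k, hk⟩ := hq'.index (MulAction.stabilizer N (0 : ZMod (p ^ a)))
    rw [MulAction.index_stabilizer_of_transitive, Nat.card_zmod] at hk
    have : p ∣ q ^ k := by rw [← hk]; exact dvd_pow_self p (by omega)
    exact ((Nat.prime_dvd_prime_iff_eq hp hq).1 (hp.dvd_of_dvd_pow this)).symm
  subst hqp
  have A1 := aff (Nat.card_zmod _) N hc he ht (hn u huH) hup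
  rcases ha.eq_or_lt with h | h
  · have A2 := aff (Nat.card_zmod _) N hc he ht (hn w hwH) hw
    have := he _ (N.mul_mem (A1.2 h.symm) (A2.2 h.symm))
    rcases (Nat.dvd_prime hp).1 (orderOf_dvd_of_pow_eq_one this) with hk | hk
    · exact hnp ⟨0, by simpa using hk⟩
    · exact hnp ⟨1, by simpa using hk⟩
  · have h3 : 3 ≤ q := by
      have := hp.two_le
      obtain ⟨j, hj⟩ := hp2
      omega
    have h4 : a < q ^ (a - 1) := by
      have : ∀ b, b + 2 < 3 ^ (b + 1) := fun b => by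
        induction b with
        | zero => norm_num
        | succ b ih => rw [pow_succ]; omega
      have h6 := (this (a - 2)).trans_le (Nat.pow_le_pow_left h3 _)
      rwa [show a - 2 + 2 = a by omega, show a - 2 + 1 = a - 1 by omega] at h6
    have h5 := congrArg (fun g : Perm (ZMod (q ^ a)) => g 0) (A1.1 _ h4)
    simp only [upow, zero_add, Perm.one_apply] at h5
    have := (ZMod.natCast_eq_zero_iff _ _).1 h5
    exact absurd (Nat.le_of_dvd (pow_pos hp.pos _) this) (not_le.2 (Nat.pow_lt_pow_right hp.one_lt (by omega)))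

end H82.AF
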