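import Cfsg.Agent.Lib.AltFree.Core

/-! Pairs of `p`-elements of an alternating group: reduction to an invariant subset. -/

set_option autoImplicit false
set_option linter.style.haveILetI false

namespace H82.AF
open Equiv Subgroup
open scoped commutatorElement

theorem Good.of_map {G H : Type*} [Group G] [Group H] {p : ℕ} (hp : p.Prime) (f : G →* H) {u w : G}
    (h : Good p (f u) (f w)) : Good p u w := by
  refine ⟨fun ⟨k, hk⟩ => ?_, fun hs => h.2 ?_⟩
  · have : orderOf (f u * f w) ∣ p ^ k := by rw [← hk, ← map_mul]; exact orderOf_map_dvd f _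
    obtain ⟨j, -, hj⟩ := (Nat.dvd_prime_pow hp).1 this
    exact h.1 ⟨j, hj⟩
  · have e : (closure ({u, w} : Set G)).map f = closure {f u, f w} := by
      rw [MonoidHom.map_closure, Set.image_pair]
    rw [← e]
    exact Group.isSolvable_of_surjective (f.subgroupMap_surjective _)

theorem Good.map {G H : Type*} [Group G] [Group H] {p : ℕ} (f : G →* H) (hf : Function.Injective f) {u w : G}
    (h : Good p u w) : Good p (f u) (f w) := by
  refine ⟨fun ⟨k, hk⟩ => h.1 ⟨k, by rwa [← map_mul, orderOf_injective f hf] at hk⟩, fun hs => h.2 ?_⟩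
  have e : (closure ({u, w} : Set G)).map f = closure {f u, f w} := by
    rw [MonoidHom.map_closure, Set.image_pair]
  rw [← e] at hs
  exact Group.isSolvable_of_isSolvable_injective (f := ((closure ({u, w} : Set G)).equivMapOfInjective f hf).toMonoidHom)
    (MulEquiv.injective _)

variable {α β : Type*}

theorem Good.of_emb {p : ℕ} (hp : p.Prime) (ι : β → α) (hι : Function.Injective ι) {u w : Perm α} {u0 w0 : Perm β}
    (hu : ∀ x, u (ι x) = ι (u0 x)) (hw : ∀ x, w (ι x) = ι (w0 x)) (h : Good p u0 w0) : Good p u w := by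
  let K : Subgroup (Perm α × Perm β) :=
    { carrier := {x | ∀ b, x.1 (ι b) = ι (x.2 b)}
      one_mem' := fun _ => rfl
      mul_mem' := fun {x y} hx hy b => by simp [hy b, hx _]
      inv_mem' := fun {x} hx b => by
        have := hx (x.2⁻¹ b)
        rw [show x.2 (x.2⁻¹ b) = b by simp] at this
        simp [← this] }
  have h1 : Good p (⟨(u, u0), hu⟩ : K) ⟨(w, w0), hw⟩ := Good.of_map hp ((MonoidHom.snd _ _).comp K.subtype) h
  refine Good.map ((MonoidHom.fst _ _).comp K.subtype) ((injective_iff_map_eq_one _).2 fun x hx => ?_) h1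
  have h2 : x.1.1 = 1 := hx
  refine Subtype.ext (Prod.ext h2 (Equiv.ext fun b => hι ?_))
  rw [← x.2 b, h2]; rfl

theorem assemble [Fintype α] [DecidableEq α] [Fintype β] [DecidableEq β] {p : ℕ} (hp : p.Prime)
    (u w : alternatingGroup α) (ι κ : β → α) (hι : Function.Injective ι) (hκ : Function.Injective κ) {u0 w0 : Perm β}
    (hu : ∀ x, u.1 (ι x) = ι (u0 x)) (hw : ∀ x, w.1 (κ x) = κ (w0 x)) (ρ σ τ : Perm β) (hτ : Perm.sign τ = -1)
    (h1 : Good p (ρ * u0 * ρ⁻¹) (σ * w0 * σ⁻¹)) (h2 : Good p (ρ * u0 * ρ⁻¹) (τ * (σ * w0 * σ⁻¹) * τ⁻¹)) :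
    ∃ g : alternatingGroup α, Good p u (g * w * g⁻¹) := by
  have hι' : Function.Injective fun x => ι (ρ⁻¹ x) := hι.comp ρ⁻¹.injective
  obtain ⟨s, hs⟩ := Perm.exists_extending_pair (fun x => κ (σ⁻¹ x)) (fun x => ι (ρ⁻¹ x)) (hκ.comp σ⁻¹.injective) hι'
  have hs' : ∀ x, (s * w.1 * s⁻¹) (ι (ρ⁻¹ x)) = ι (ρ⁻¹ ((σ * w0 * σ⁻¹) x)) := fun x => by
    rw [← hs, ← hs]; simp [hw]
  have hu' : ∀ x, u.1 (ι (ρ⁻¹ x)) = ι (ρ⁻¹ ((ρ * u0 * ρ⁻¹) x)) := fun x => by simp [hu]
  rcases Int.units_eq_one_or (Perm.sign s) with h | h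
  · exact ⟨⟨s, Perm.mem_alternatingGroup.2 h⟩, Good.of_map hp (alternatingGroup α).subtype
      (Good.of_emb hp _ hι' hu' hs' h1)⟩
  · let t := τ.viaFintypeEmbedding ⟨_, hι'⟩
    have ht : ∀ x, t (ι (ρ⁻¹ x)) = ι (ρ⁻¹ (τ x)) := fun x => τ.viaFintypeEmbedding_apply_image ⟨_, hι'⟩ x
    have ht' : ∀ x, t⁻¹ (ι (ρ⁻¹ x)) = ι (ρ⁻¹ (τ⁻¹ x)) := fun x => by
      rw [Perm.inv_eq_iff_eq, ht]; simp
    refine ⟨⟨t * s, Perm.mem_alternatingGroup.2 (by
      rw [map_mul, h, Perm.viaFintypeEmbedding_sign, hτ]; simp)⟩, Good.of_map hp (alternatingGroup α).subtype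
      (Good.of_emb hp _ hι' hu' (fun x => ?_) h2)⟩
    show (t * s * w.1 * (t * s)⁻¹) _ = _
    rw [show t * s * w.1 * (t * s)⁻¹ = t * (s * w.1 * s⁻¹) * t⁻¹ by group, Perm.mul_apply, Perm.mul_apply, ht', hs', ht]
    rfl

theorem inj_pow {p a : ℕ} (hp : p.Prime) {w : Perm α} {x : α} (h1 : (w ^ p ^ (a + 1)) x = x) (h2 : (w ^ p ^ a) x ≠ x)
    {i j : ℕ} (hi : i < p ^ (a + 1)) (hj : j < p ^ (a + 1)) (e : (w ^ i) x = (w ^ j) x) : i = j := by
  have hd : Function.minimalPeriod w x ∣ p ^ (a + 1) :=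
    Function.IsPeriodicPt.minimalPeriod_dvd (by rw [Function.IsPeriodicPt, Function.IsFixedPt, ← Perm.coe_pow]; exact h1)
  obtain ⟨k, hk, e'⟩ := (Nat.dvd_prime_pow hp).1 hd
  have : k = a + 1 := by
    by_contra h
    apply h2
    have : Function.IsPeriodicPt w (p ^ a) x := Function.isPeriodicPt_iff_minimalPeriod_dvd.2
      (e' ▸ pow_dvd_pow _ (by omega))
    rwa [Function.IsPeriodicPt, Function.IsFixedPt, ← Perm.coe_pow] at this
  rw [this] at e'
  exact (Function.iterate_eq_iterate_iff_of_lt_minimalPeriod (f := w) (x := x) (e' ▸ hi) (e' ▸ hj)).1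
    (by rw [← Perm.coe_pow, ← Perm.coe_pow]; exact e)

/-- invariant subsets of prescribed size -/
theorem exists_inv [DecidableEq α] {p : ℕ} (hp : p.Prime) (w : Perm α) (a : ℕ) : ∀ (j : ℕ) (T : Finset α),
    (∀ x, w x ∈ T ↔ x ∈ T) → (∀ x ∈ T, (w ^ p ^ a) x = x) → j * p ^ a ≤ T.card →
    ∃ S ⊆ T, (∀ x, w x ∈ S ↔ x ∈ S) ∧ S.card = j * p ^ a ∧ (1 ≤ j → (∃ x ∈ T, w x ≠ x) → ∃ x ∈ S, w x ≠ x) := by
  induction a with
  | zero =>
    intro j T hT h hj
    obtain ⟨S, hS, e⟩ := Finset.exists_subset_card_eq hj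
    simp only [pow_zero, pow_one] at h
    refine ⟨S, hS, fun x => ⟨fun hx => ?_, fun hx => by rwa [h x (hS hx)]⟩, e, fun _ ⟨x, hx, hx'⟩ => absurd (h x hx) hx'⟩
    rwa [h x ((hT x).1 (hS hx))] at hx
  | succ a iha =>
    have one : ∀ T : Finset α, (∀ x, w x ∈ T ↔ x ∈ T) → (∀ x ∈ T, (w ^ p ^ (a + 1)) x = x) → p ^ (a + 1) ≤ T.card →
        ∃ S ⊆ T, (∀ x, w x ∈ S ↔ x ∈ S) ∧ S.card = p ^ (a + 1) ∧ ((∃ x ∈ T, w x ≠ x) → ∃ x ∈ S, w x ≠ x) := by
      intro T hT h hj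
      by_cases h0 : ∀ x ∈ T, (w ^ p ^ a) x = x
      · obtain ⟨S, h1, h2, h3, h4⟩ := iha p T hT h0 (by rwa [pow_succ'] at hj)
        exact ⟨S, h1, h2, by rw [h3, pow_succ'], h4 hp.pos⟩
      · push Not at h0
        obtain ⟨x, hx, hx'⟩ := h0
        have hpos : 0 < p ^ (a + 1) := pow_pos hp.pos _
        have hm : ∀ i : ℕ, (w ^ i) x ∈ (Finset.range (p ^ (a + 1))).image fun i => (w ^ i) x := fun i => by
          refine Finset.mem_image.2 ⟨i % p ^ (a + 1), Finset.mem_range.2 (Nat.mod_lt _ hpos), ?_⟩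
          conv_rhs => rw [← Nat.mod_add_div i (p ^ (a + 1)), pow_add, pow_mul, Perm.mul_apply,
            Perm.pow_apply_eq_self_of_apply_eq_self (h x hx)]
        refine ⟨(Finset.range (p ^ (a + 1))).image fun i => (w ^ i) x, fun y hy => ?_, fun y => ⟨fun hy => ?_, fun hy => ?_⟩,
          ?_, fun _ => ⟨x, by simpa using hm 0, fun e => hx' (Perm.pow_apply_eq_self_of_apply_eq_self e _)⟩⟩
        · obtain ⟨i, -, rfl⟩ := Finset.mem_image.1 hy
          induction i with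
          | zero => simpa using hx
          | succ i ih => rw [pow_succ', Perm.mul_apply, hT]; exact ih (hm i)
        · obtain ⟨i, -, e⟩ := Finset.mem_image.1 hy
          have : y = (w ^ (i + (p ^ (a + 1) - 1))) x := by
            apply w.injective
            rw [← e, ← Perm.mul_apply, ← pow_succ', add_assoc, Nat.sub_add_cancel hpos, pow_add, Perm.mul_apply, h x hx]
          rw [this]; exact hm _
        · obtain ⟨i, -, rfl⟩ := Finset.mem_image.1 hy
          rw [← Perm.mul_apply, ← pow_succ']; exact hm _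
        · rw [Finset.card_image_of_injOn fun i hi j hj e =>
            inj_pow hp (h x hx) hx' (by simpa using hi) (by simpa using hj) e, Finset.card_range]
    intro j
    induction j with
    | zero => intro T _ _ _; exact ⟨∅, by simp, by simp, by simp, by simp⟩
    | succ j ihj =>
      intro T hT h hj
      rw [add_mul, one_mul] at hj
      obtain ⟨S, h1, h2, h3, h4⟩ := one T hT h (by omega)
      obtain ⟨S', k1, k2, k3, -⟩ := ihj (T \ S) (fun x => by simp [hT, h2]) (fun x hx => h x (Finset.mem_sdiff.1 hx).1)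
        (by rw [Finset.card_sdiff_of_subset h1]; omega)
      refine ⟨S ∪ S', Finset.union_subset h1 (k1.trans Finset.sdiff_subset), fun x => by simp [h2, k2], ?_,
        fun _ hx => (h4 hx).imp fun x hx => ⟨Finset.mem_union_left _ hx.1, hx.2⟩⟩
      rw [Finset.card_union_of_disjoint (Finset.disjoint_left.2 fun x hx hx' => (Finset.mem_sdiff.1 (k1 hx')).2 hx), h3, k3]
      ring

theorem restrict [Fintype α] [DecidableEq α] [Fintype β] {p a j : ℕ} (hp : p.Prime) {w : Perm α} (hw : w ^ p ^ a = 1)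
    (h1 : w ≠ 1) (hj : 1 ≤ j) (hβ : Fintype.card β = j * p ^ a ∨ Fintype.card β = Fintype.card α)
    (hle : Fintype.card β ≤ Fintype.card α) :
    ∃ (κ : β → α) (w1 : Perm β), Function.Injective κ ∧ (∀ x, w (κ x) = κ (w1 x)) ∧ w1 ^ p ^ a = 1 ∧ w1 ≠ 1 := by
  have hx : ∃ x ∈ (Finset.univ : Finset α), w x ≠ x := by
    by_contra h
    exact h1 (Equiv.ext fun x => not_not.1 fun e => h ⟨x, Finset.mem_univ _, e⟩)
  obtain ⟨S, h2, h3, x, hx, hx'⟩ : ∃ S : Finset α, (∀ x, w x ∈ S ↔ x ∈ S) ∧ S.card = Fintype.card β ∧ ∃ x ∈ S, w x ≠ x := by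
    rcases hβ with hβ | hβ
    · obtain ⟨S, -, h2, h3, h4⟩ := exists_inv hp w a j Finset.univ (by simp) (by simp [hw]) (by
        rw [← hβ]; exact hle)
      exact ⟨S, h2, h3.trans hβ.symm, h4 hj hx⟩
    · exact ⟨Finset.univ, by simp, hβ.symm, hx⟩
  let e : β ≃ S := Fintype.equivOfCardEq (by rw [Fintype.card_coe, h3])
  let w1 : Perm β := e.symm.permCongr (w.subtypePerm h2)
  have k : ∀ x, w (e x) = e (w1 x) := fun x => by simp [w1]
  have k' : ∀ (i : ℕ) x, (w ^ i) (e x) = e ((w1 ^ i) x) := fun i => by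
    induction i with
    | zero => simp
    | succ i ih => intro x; rw [pow_succ', pow_succ', Perm.mul_apply, Perm.mul_apply, ih, k]
  refine ⟨fun b => e b, w1, Subtype.val_injective.comp e.injective, k, Equiv.ext fun b => e.injective (Subtype.ext ?_),
    fun h => hx' ?_⟩
  · rw [← k', hw]; rfl
  · have := k (e.symm ⟨x, hx⟩)
    rw [h] at this
    simpa using this

theorem swap_ok [Fintype β] [DecidableEq β] (T : Finset β) (hT : T.card + 2 ≤ Fintype.card β) :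
    ∃ τ : Perm β, Perm.sign τ = -1 ∧ ∀ (w : Perm β) (z : β), z ∈ T → w z ∈ T → (τ * w * τ⁻¹) z = w z := by
  have : 1 < (Finset.univ \ T).card := by
    rw [Finset.card_sdiff_of_subset (Finset.subset_univ _), Finset.card_univ]; omega
  obtain ⟨s, hs, t, ht, hst⟩ := Finset.one_lt_card.1 this
  have k : ∀ z ∈ T, swap s t z = z := fun z hz => swap_apply_of_ne_of_ne
    (fun e => (Finset.mem_sdiff.1 hs).2 (e ▸ hz)) (fun e => (Finset.mem_sdiff.1 ht).2 (e ▸ hz))
  exact ⟨swap s t, Perm.sign_swap hst, fun w z h1 h2 => by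
    rw [swap_inv, Perm.mul_apply, Perm.mul_apply, k z h1, k _ h2]⟩

theorem two_step {p c : ℕ} (hp : Odd p) {w : Perm β} (hw : w ^ p ^ c = 1) {x : β} (hx : w x ≠ x) : w (w x) ≠ x :=
  fun e => by
    have h1 : (w ^ 2) x = x := by rw [sq, Perm.mul_apply, e]
    obtain ⟨j, hj⟩ := hp.pow (n := c)
    have h2 : (w ^ p ^ c) x = w x := by
      rw [hj, pow_succ', pow_mul, Perm.mul_apply, Perm.pow_apply_eq_self_of_apply_eq_self h1]
    rw [hw] at h2
    exact hx h2.symm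

theorem conj_pow_one {G : Type*} [Group G] {w : G} {n : ℕ} (h : w ^ n = 1) (σ : G) : (σ * w * σ⁻¹) ^ n = 1 := by
  rw [conj_pow, h]; simp

theorem prime_case {p : ℕ} [Fact p.Prime] (hp5 : 5 ≤ p) [NeZero (p ^ 1)] (w : Perm (ZMod (p ^ 1))) (hw : w ^ p ^ 1 = 1)
    (h1 : w ≠ 1) : ∃ σ τ : Perm (ZMod (p ^ 1)), Perm.sign τ = -1 ∧
      Good p (Equiv.addRight (1 : ZMod (p ^ 1))) (σ * w * σ⁻¹) ∧
      Good p (Equiv.addRight (1 : ZMod (p ^ 1))) (τ * (σ * w * σ⁻¹) * τ⁻¹) := by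
  have hp : p.Prime := Fact.out
  have hodd : Odd p := hp.odd_of_ne_two (by omega)
  have nz : ∀ k : ℕ, 0 < k → k < 5 → (k : ZMod (p ^ 1)) ≠ 0 := fun k h0 h5 e => by
    have := Nat.le_of_dvd h0 ((ZMod.natCast_eq_zero_iff _ _).1 e)
    rw [pow_one] at this; omega
  have n1 : (1 : ZMod (p ^ 1)) ≠ 0 := by simpa using nz 1 (by norm_num) (by norm_num)
  have n2 : (-1 : ZMod (p ^ 1)) ≠ 1 := fun e => nz 2 (by norm_num) (by norm_num) (by
    push_cast; linear_combination -e)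
  have n3 : (1 + 1 : ZMod (p ^ 1)) ≠ -1 := fun e => nz 3 (by norm_num) (by norm_num) (by
    push_cast; linear_combination e)
  have key : ∀ v : Perm (ZMod (p ^ 1)), v ^ p ^ 1 = 1 → v 0 = -1 → v (-1) = 1 →
      Good p (Equiv.addRight (1 : ZMod (p ^ 1))) v := fun v hv a1 a2 => by
    refine core hodd le_rfl v hv ?_ (Or.inl rfl)
    rintro ⟨k, hk⟩
    set y := Equiv.addRight (1 : ZMod (p ^ 1)) * v
    have h2 := Perm.card_compl_support_modEq (σ := y) (p := p) (n := k) (by rw [← hk]; exact pow_orderOf_eq_one y)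
    have h3 : 0 < (y.support)ᶜ.card := Finset.card_pos.2 ⟨0, by
      rw [Finset.mem_compl, Perm.mem_support, not_not]
      show v 0 + 1 = 0
      rw [a1]; simp⟩
    have h4 : (y.support)ᶜ.card < Fintype.card (ZMod (p ^ 1)) :=
      Finset.card_lt_univ_of_notMem (x := -1) (by
        rw [Finset.mem_compl, Perm.mem_support, not_not]
        show ¬ v (-1) + 1 = -1
        rw [a2]; exact n3)
    have h5 : Fintype.card (ZMod (p ^ 1)) = p := by rw [ZMod.card, pow_one]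
    rw [h5] at h2 h4
    have := Nat.le_of_dvd h3 ((Nat.modEq_zero_iff_dvd).1 (h2.trans (Nat.modEq_zero_iff_dvd.2 dvd_rfl)))
    omega
  obtain ⟨A, hA⟩ : ∃ A, w A ≠ A := by
    by_contra h
    exact h1 (Equiv.ext fun x => not_not.1 fun e => h ⟨x, e⟩)
  have hC := two_step hodd hw hA
  have hB : w (w A) ≠ w A := fun e => hA (w.injective e)
  obtain ⟨σ, hσ⟩ := Perm.exists_extending_pair ![A, w A, w (w A)] ![(0 : ZMod (p ^ 1)), -1, 1]
    (List.nodup_ofFn.1 (by simp [List.ofFn_succ, hA.symm, hB.symm, hC.symm]))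
    (List.nodup_ofFn.1 (by simp [List.ofFn_succ, n1, n1.symm, n2]))
  have s0 : σ A = 0 := hσ 0
  have s1 : σ (w A) = -1 := hσ 1
  have s2 : σ (w (w A)) = 1 := hσ 2
  have a1 : (σ * w * σ⁻¹) 0 = -1 := by rw [← s0, ← s1]; simp
  have a2 : (σ * w * σ⁻¹) (-1) = 1 := by rw [← s1, ← s2]; simp
  obtain ⟨τ, h2, h3⟩ := swap_ok ({0, -1, 1} : Finset (ZMod (p ^ 1))) (by
    have := Finset.card_le_three (a := (0 : ZMod (p ^ 1))) (b := -1) (c := 1)
    have h5 : Fintype.card (ZMod (p ^ 1)) = p := by rw [ZMod.card, pow_one]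
    omega)
  exact ⟨σ, τ, h2, key _ (conj_pow_one hw σ) a1 a2, key _ (conj_pow_one (conj_pow_one hw σ) τ)
    (by rw [h3 _ _ (by simp) (by simp [a1]), a1]) (by rw [h3 _ _ (by simp) (by simp [a2]), a2])⟩

theorem exists_out [Fintype β] [DecidableEq β] (l : List β) (h : l.length < Fintype.card β) : ∃ x, x ∉ l := by
  by_contra h'
  have : (Finset.univ : Finset β) ⊆ l.toFinset := fun x _ => List.mem_toFinset.2 (not_not.1 fun e => h' ⟨x, e⟩)
  have h2 := (Finset.card_le_card this).trans (List.toFinset_card_le l)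
  rw [Finset.card_univ] at h2; omega

theorem power_case {p a c : ℕ} [Fact p.Prime] (hp3 : 3 ≤ p) (ha : 2 ≤ a) [NeZero (p ^ a)] (w : Perm (ZMod (p ^ a)))
    (hw : w ^ p ^ c = 1) (h1 : w ≠ 1) : ∃ σ τ : Perm (ZMod (p ^ a)), Perm.sign τ = -1 ∧
      Good p (Equiv.addRight (1 : ZMod (p ^ a))) (σ * w * σ⁻¹) ∧
      Good p (Equiv.addRight (1 : ZMod (p ^ a))) (τ * (σ * w * σ⁻¹) * τ⁻¹) := by
  have hp : p.Prime := Fact.out
  have hodd : Odd p := hp.odd_of_ne_two (by omega)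
  have h9 : 9 ≤ p ^ a := (show 9 = 3 ^ 2 by norm_num) ▸ (Nat.pow_le_pow_left hp3 2).trans (Nat.pow_le_pow_right hp.pos ha)
  have hcard : 9 ≤ Fintype.card (ZMod (p ^ a)) := by rwa [ZMod.card]
  set π : ZMod (p ^ a) := ((p ^ (a - 1) : ℕ) : ZMod (p ^ a)) with hπ
  have nz : ∀ k : ℕ, 0 < k → k < 9 → (k : ZMod (p ^ a)) ≠ 0 := fun k h0 h5 e => by
    have := Nat.le_of_dvd h0 ((ZMod.natCast_eq_zero_iff _ _).1 e)
    omega
  have n1 : (1 : ZMod (p ^ a)) ≠ 0 := by simpa using nz 1 (by norm_num) (by norm_num)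
  haveI : Nontrivial (ZMod (p ^ a)) := ⟨⟨1, 0, n1⟩⟩
  have n2 : (2 : ZMod (p ^ a)) ≠ 0 := by simpa using nz 2 (by norm_num) (by norm_num)
  have n3 : (1 : ZMod (p ^ a)) ≠ 2 := fun e => n1 (by linear_combination -e)
  have n4 : (1 : ZMod (p ^ a)) ≠ -1 := fun e => n2 (by linear_combination e)
  have n5 : (2 : ZMod (p ^ a)) ≠ -1 := fun e => nz 3 (by norm_num) (by norm_num) (by push_cast; linear_combination e)
  have hnil : IsNilpotent π := ⟨2, by
    rw [hπ, ← Nat.cast_pow, ZMod.natCast_eq_zero_iff, ← pow_mul]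
    exact pow_dvd_pow _ (by omega)⟩
  have u2 : IsUnit (2 : ZMod (p ^ a)) := by
    have := (ZMod.isUnit_iff_coprime 2 (p ^ a)).2 (Nat.Coprime.pow_right _ ((Nat.coprime_two_left).2 hodd))
    simpa using this
  have nu : ∀ x : ZMod (p ^ a), IsUnit x → x ≠ π ∧ x ≠ -π := fun x hx =>
    ⟨fun e => hnil.not_isUnit (e ▸ hx), fun e => hnil.neg.not_isUnit (e ▸ hx)⟩
  have p0 : π ≠ 0 := fun e => absurd (Nat.le_of_dvd (pow_pos hp.pos _) ((ZMod.natCast_eq_zero_iff _ _).1 e))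
    (not_le.2 (Nat.pow_lt_pow_right hp.one_lt (by omega)))
  have pp : π ≠ -π := fun e => p0 (u2.mul_right_eq_zero.1 (by linear_combination e))
  obtain ⟨q1, q2⟩ := nu 1 isUnit_one
  obtain ⟨q3, q4⟩ := nu 2 u2
  obtain ⟨q5, q6⟩ := nu (-1) isUnit_one.neg
  have key : ∀ (v : Perm (ZMod (p ^ a))) (y : ZMod (p ^ a)), v ^ p ^ c = 1 → 0 ≠ y → v 0 + 1 = y → v y + 1 = 0 →
      IsUnit (v π - v 0) → Good p (Equiv.addRight (1 : ZMod (p ^ a))) v := fun v y hv a0 a1 a2 a3 =>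
    core hodd (by omega) v hv (not_p hodd a0 a1 a2) (Or.inr ⟨0, by rwa [zero_add]⟩)
  suffices h : ∃ (σ : Perm (ZMod (p ^ a))) (y : ZMod (p ^ a)), 0 ≠ y ∧ (σ * w * σ⁻¹) 0 + 1 = y ∧ (σ * w * σ⁻¹) y + 1 = 0 ∧
      IsUnit ((σ * w * σ⁻¹) π - (σ * w * σ⁻¹) 0) by
    obtain ⟨σ, y, a0, a1, a2, a3⟩ := h
    have hv := conj_pow_one hw σ
    generalize hv' : σ * w * σ⁻¹ = v at a1 a2 a3 hv
    obtain ⟨τ, h2, h3⟩ := swap_ok ({0, y, π, v 0, v y, v π} : Finset (ZMod (p ^ a))) (by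
      have := Finset.card_le_six (a := (0 : ZMod (p ^ a))) (b := y) (c := π) (d := v 0) (e := v y) (f := v π)
      omega)
    refine ⟨σ, τ, h2, hv' ▸ key v y hv a0 a1 a2 a3, hv' ▸ key _ y (conj_pow_one hv τ) a0 ?_ ?_ ?_⟩
    · rw [h3 _ _ (by simp) (by simp), a1]
    · rw [h3 _ _ (by simp) (by simp), a2]
    · rwa [h3 _ _ (by simp) (by simp), h3 _ _ (by simp) (by simp)]
  have cj : ∀ (σ : Perm (ZMod (p ^ a))) x, (σ * w * σ⁻¹) (σ x) = σ (w x) := fun σ x => by simp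
  by_cases hI : ∃ A C, [A, w A, C, w C].Nodup
  · obtain ⟨A, C, hAC⟩ := hI
    obtain ⟨E, hE⟩ := exists_out [A, w A, C, w C, w⁻¹ A, w⁻¹ C] (by simp; omega)
    have e1 : w E ≠ A := fun e => hE (by simp [← e])
    have e2 : w E ≠ C := fun e => hE (by simp [← e])
    have e3 : w E ≠ w A := fun e => hE (by simp [w.injective e])
    have e4 : w E ≠ w C := fun e => hE (by simp [w.injective e])
    by_cases hF : w E = E
    · obtain ⟨σ, hσ⟩ := Perm.exists_extending_pair ![A, w A, C, w C, E] ![(0 : ZMod (p ^ a)), 1, 2, -1, π]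
        (List.nodup_ofFn.1 (by simp only [List.ofFn_succ, List.ofFn_zero]; simp at hAC hE ⊢; grind))
        (List.nodup_ofFn.1 (by simp [List.ofFn_succ, n1.symm, n2.symm, n3, n4, n5, p0.symm, q1, q3, q5]))
      have s0 : σ A = 0 := hσ 0
      have s1 : σ (w A) = 1 := hσ 1
      have s2 : σ C = 2 := hσ 2
      have s3 : σ (w C) = -1 := hσ 3
      have s4 : σ E = π := hσ 4
      refine ⟨σ, 2, n2.symm, by rw [← s0, cj, s1]; ring, by rw [← s2, cj, s3]; ring, ?_⟩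
      rw [← s0, ← s4, cj, cj, hF, s4, s1]
      exact hnil.isUnit_sub_one
    · obtain ⟨σ, hσ⟩ := Perm.exists_extending_pair ![A, w A, C, w C, E, w E] ![(0 : ZMod (p ^ a)), 1, 2, -1, π, -π]
        (List.nodup_ofFn.1 (by simp only [List.ofFn_succ, List.ofFn_zero]; simp at hAC hE ⊢; grind))
        (List.nodup_ofFn.1 (by simp [List.ofFn_succ, n1.symm, n2.symm, n3, n4, n5, p0.symm, p0, q1, q2, q3, q4, q5, pp]))
      have s0 : σ A = 0 := hσ 0
      have s1 : σ (w A) = 1 := hσ 1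
      have s2 : σ C = 2 := hσ 2
      have s3 : σ (w C) = -1 := hσ 3
      have s4 : σ E = π := hσ 4
      have s5 : σ (w E) = -π := hσ 5
      refine ⟨σ, 2, n2.symm, by rw [← s0, cj, s1]; ring, by rw [← s2, cj, s3]; ring, ?_⟩
      rw [← s0, ← s4, cj, cj, s5, s1]
      exact hnil.neg.isUnit_sub_one
  · obtain ⟨A, hA⟩ : ∃ A, w A ≠ A := by
      by_contra h
      exact h1 (Equiv.ext fun x => not_not.1 fun e => h ⟨x, e⟩)
    have hC := two_step hodd hw hA
    have hB : w (w A) ≠ w A := fun e => hA (w.injective e)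
    have h3 : w (w (w A)) = A := by
      by_contra h
      refine hI ⟨A, w (w A), ?_⟩
      have f1 : w (w (w A)) ≠ w A := fun e => hC (w.injective e)
      have f2 : w (w (w A)) ≠ w (w A) := fun e => hB (w.injective e)
      simp; grind
    obtain ⟨Z, hZ⟩ := exists_out [A, w A, w (w A)] (by simp; omega)
    have hZ' : w Z = Z := by
      by_contra h
      refine hI ⟨A, Z, ?_⟩
      have f1 : w Z ≠ A := fun e => hZ (by simp [w.injective (e.trans h3.symm)])
      have f2 : w Z ≠ w A := fun e => hZ (by simp [w.injective e])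
      simp at hZ ⊢; grind
    obtain ⟨σ, hσ⟩ := Perm.exists_extending_pair ![Z, A, w A, w (w A)] ![(0 : ZMod (p ^ a)), 1, -1, π]
      (List.nodup_ofFn.1 (by simp only [List.ofFn_succ, List.ofFn_zero]; simp at hZ ⊢; grind))
      (List.nodup_ofFn.1 (by simp [List.ofFn_succ, n1.symm, n1, n4, p0.symm, q1, q5]))
    have s0 : σ Z = 0 := hσ 0
    have s1 : σ A = 1 := hσ 1
    have s2 : σ (w A) = -1 := hσ 2
    have s3 : σ (w (w A)) = π := hσ 3
    refine ⟨σ, 1, n1.symm, by rw [← s0, cj, hZ', s0]; ring, by rw [← s1, cj, s2, s1]; ring, ?_⟩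
    rw [← s0, ← s3, cj, cj, h3, hZ', s1, s0]
    simp

theorem not_solv {G : Type*} [Group G] {a b x y : G} (hx : x ∈ closure ({a, b} : Set G)) (hy : y ∈ closure ({a, b} : Set G))
    (h1 : ⁅x, a⁆ = a) (h2 : ⁅y, b⁆ = b) (h3 : a ≠ 1) : ¬ Group.IsSolvable (closure ({a, b} : Set G)) := fun hs => by
  have ha : a ∈ closure ({a, b} : Set G) := subset_closure (by simp)
  have hb : b ∈ closure ({a, b} : Set G) := subset_closure (by simp)
  haveI : Nontrivial (closure ({a, b} : Set G)) := ⟨⟨⟨a, ha⟩, 1, fun e => h3 (congrArg Subtype.val e)⟩⟩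
  refine (Group.IsSolvable.commutator_lt_top_of_nontrivial (closure ({a, b} : Set G))).not_ge ?_
  rw [← closure_closure_coe_preimage, closure_le]
  rintro z (e | e)
  · have : z = ⁅(⟨x, hx⟩ : closure ({a, b} : Set G)), ⟨a, ha⟩⁆ := Subtype.ext (e.trans h1.symm)
    rw [this]; exact commutator_mem_commutator (mem_top _) (mem_top _)
  · have : z = ⁅(⟨y, hy⟩ : closure ({a, b} : Set G)), ⟨b, hb⟩⁆ := Subtype.ext (e.trans h2.symm)
    rw [this]; exact commutator_mem_commutator (mem_top _) (mem_top _)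

theorem good_small {G : Type*} [Group G] {a b : G} (h3 : a ≠ 1) (m : ℕ) (hm : m = 4 ∨ m = 5) (h4 : (a * b) ^ m = 1)
    (h5 : a * b ≠ 1) (h : (⁅b * a * a * b * b * a * b, a⁆ = a ∧ ⁅a * b * a * a * b * b * a, b⁆ = b) ∨
      (⁅b * a * a * b * a * b * a * a * b * b, a⁆ = a ∧ ⁅a * a * b * b * a * b * a * b * b * a, b⁆ = b)) :
    Good 3 a b := by
  have ha : a ∈ closure ({a, b} : Set G) := subset_closure (by simp)
  have hb : b ∈ closure ({a, b} : Set G) := subset_closure (by simp)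
  refine ⟨fun ⟨k, hk⟩ => h5 ?_, ?_⟩
  · have h6 : orderOf (a * b) ∣ m := orderOf_dvd_of_pow_eq_one h4
    have : Nat.Coprime (3 ^ k) m := Nat.Coprime.pow_left _ (by rcases hm with rfl | rfl <;> norm_num)
    rw [← hk] at this
    exact orderOf_eq_one_iff.1 (Nat.Coprime.eq_one_of_dvd this h6)
  · rcases h with h | h
    · exact not_solv (by simp only [mul_mem_cancel_right, ha, hb]) (by simp only [mul_mem_cancel_right, ha, hb]) h.1 h.2 h3
    · exact not_solv (by simp only [mul_mem_cancel_right, ha, hb]) (by simp only [mul_mem_cancel_right, ha, hb]) h.1 h.2 h3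

theorem three_conj [Fintype β] [DecidableEq β] {g r : Perm β} (hg : g ^ 3 = 1) (hr : r ^ 3 = 1)
    (h : g.support.card = r.support.card) : ∃ σ : Perm β, σ * g * σ⁻¹ = r := by
  haveI : Fact (Nat.Prime 3) := ⟨by norm_num⟩
  have h1 := Perm.cycleType_of_pow_prime_eq_one hg
  have h2 := Perm.cycleType_of_pow_prime_eq_one hr
  rw [← Perm.sum_cycleType, ← Perm.sum_cycleType, h1, h2, Multiset.sum_replicate, Multiset.sum_replicate,
    smul_eq_mul, smul_eq_mul] at h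
  exact isConj_iff.1 (Perm.isConj_iff_cycleType_eq.2 (by rw [h1, h2, Nat.eq_of_mul_eq_mul_right (by norm_num) h]))

theorem three_supp [Fintype β] [DecidableEq β] {g : Perm β} (hg : g ^ 3 = 1) (h1 : g ≠ 1) :
    ∃ k, 1 ≤ k ∧ g.support.card = 3 * k ∧ 3 * k ≤ Fintype.card β := by
  haveI : Fact (Nat.Prime 3) := ⟨by norm_num⟩
  have h2 := Perm.sum_cycleType g
  rw [Perm.cycleType_of_pow_prime_eq_one hg, Multiset.sum_replicate, smul_eq_mul, mul_comm] at h2
  have h3 : 0 < g.support.card := Finset.card_pos.2 (Finset.nonempty_iff_ne_empty.2 (by simpa using h1))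
  exact ⟨_, by omega, h2.symm, h2 ▸ Finset.card_le_univ _⟩

theorem small5 (u w : Perm (Fin 5)) (hu : u ^ 3 = 1) (hw : w ^ 3 = 1) (hu1 : u ≠ 1) (hw1 : w ≠ 1) :
    ∃ ρ σ τ : Perm (Fin 5), Perm.sign τ = -1 ∧ Good 3 (ρ * u * ρ⁻¹) (σ * w * σ⁻¹) ∧
      Good 3 (ρ * u * ρ⁻¹) (τ * (σ * w * σ⁻¹) * τ⁻¹) := by
  obtain ⟨i, i1, i2, i3⟩ := three_supp hu hu1
  obtain ⟨j, j1, j2, j3⟩ := three_supp hw hw1
  rw [Fintype.card_fin] at i3 j3
  obtain ⟨ρ, hρ⟩ := three_conj (r := c[0, 1, 2]) hu (by decide +kernel) (by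
    rw [i2, show i = 1 by omega]; decide +kernel)
  obtain ⟨σ, hσ⟩ := three_conj (r := c[2, 3, 4]) hw (by decide +kernel) (by
    rw [j2, show j = 1 by omega]; decide +kernel)
  have : Good 3 (c[0, 1, 2] : Perm (Fin 5)) c[2, 3, 4] :=
    good_small (by decide +kernel) 5 (Or.inr rfl) (by decide +kernel) (by decide +kernel) (Or.inl (by decide +kernel))
  refine ⟨ρ, σ, swap 0 1, by decide +kernel, by rwa [hρ, hσ], ?_⟩
  rwa [hρ, hσ, show swap 0 1 * (c[2, 3, 4] : Perm (Fin 5)) * (swap 0 1)⁻¹ = c[2, 3, 4] by decide +kernel]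

theorem small6 (u w : Perm (Fin 6)) (hu : u ^ 3 = 1) (hw : w ^ 3 = 1) (hu1 : u ≠ 1) (hw1 : w ≠ 1) :
    ∃ ρ σ τ : Perm (Fin 6), Perm.sign τ = -1 ∧ Good 3 (ρ * u * ρ⁻¹) (σ * w * σ⁻¹) ∧
      Good 3 (ρ * u * ρ⁻¹) (τ * (σ * w * σ⁻¹) * τ⁻¹) := by
  obtain ⟨i, i1, i2, i3⟩ := three_supp hu hu1
  obtain ⟨j, j1, j2, j3⟩ := three_supp hw hw1
  rw [Fintype.card_fin] at i3 j3
  have fin : ∀ a b τ : Perm (Fin 6), a ^ 3 = 1 → b ^ 3 = 1 → a.support.card = 3 * i → b.support.card = 3 * j →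
      Perm.sign τ = -1 → τ * b * τ⁻¹ = b → Good 3 a b → ∃ ρ σ τ : Perm (Fin 6), Perm.sign τ = -1 ∧
        Good 3 (ρ * u * ρ⁻¹) (σ * w * σ⁻¹) ∧ Good 3 (ρ * u * ρ⁻¹) (τ * (σ * w * σ⁻¹) * τ⁻¹) := by
    intro a b τ h1 h2 h3 h4 h5 h6 h7
    obtain ⟨ρ, hρ⟩ := three_conj hu h1 (i2.trans h3.symm)
    obtain ⟨σ, hσ⟩ := three_conj hw h2 (j2.trans h4.symm)
    exact ⟨ρ, σ, τ, h5, by rwa [hρ, hσ], by rwa [hρ, hσ, h6]⟩
  obtain rfl | rfl : i = 1 ∨ i = 2 := by omega
  all_goals obtain rfl | rfl : j = 1 ∨ j = 2 := by omega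
  · exact fin c[0, 1, 2] c[2, 3, 4] (swap 0 1) (by decide +kernel) (by decide +kernel) (by decide +kernel)
      (by decide +kernel) (by decide +kernel) (by decide +kernel) (good_small (by decide +kernel) 5 (Or.inr rfl)
        (by decide +kernel) (by decide +kernel) (Or.inl (by decide +kernel)))
  · exact fin c[0, 1, 2] (c[0, 1, 3] * c[2, 4, 5]) (swap 0 2 * swap 1 4 * swap 3 5) (by decide +kernel)
      (by decide +kernel) (by decide +kernel) (by decide +kernel) (by decide +kernel) (by decide +kernel)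
      (good_small (by decide +kernel) 4 (Or.inl rfl) (by decide +kernel) (by decide +kernel) (Or.inr (by decide +kernel)))
  · exact fin (c[0, 1, 2] * c[3, 4, 5]) c[2, 3, 4] (swap 0 1) (by decide +kernel)
      (by decide +kernel) (by decide +kernel) (by decide +kernel) (by decide +kernel) (by decide +kernel)
      (good_small (by decide +kernel) 4 (Or.inl rfl) (by decide +kernel) (by decide +kernel) (Or.inr (by decide +kernel)))
  · exact fin (c[0, 1, 2] * c[3, 4, 5]) (c[0, 1, 3] * c[2, 5, 4]) (swap 0 2 * swap 1 5 * swap 3 4) (by decide +kernel)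
      (by decide +kernel) (by decide +kernel) (by decide +kernel) (by decide +kernel) (by decide +kernel)
      (good_small (by decide +kernel) 5 (Or.inr rfl) (by decide +kernel) (by decide +kernel) (Or.inl (by decide +kernel)))

theorem main_le {n p a b : ℕ} (hn : 5 ≤ n) (hp : p.Prime) (hp3 : 3 ≤ p) (u w : alternatingGroup (Fin n)) (hu : u ≠ 1)
    (hw : w ≠ 1) (ha : orderOf u = p ^ a) (hb : orderOf w = p ^ b) (hab : b ≤ a) :
    ∃ g : alternatingGroup (Fin n), Good p u (g * w * g⁻¹) := by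
  haveI := Fact.mk hp
  have hu1 : u.1 ≠ 1 := fun e => hu (Subtype.ext e)
  have hw1 : w.1 ≠ 1 := fun e => hw (Subtype.ext e)
  have hua : u.1 ^ p ^ a = 1 := by rw [← ha]; exact congrArg Subtype.val (pow_orderOf_eq_one u)
  have hwa : w.1 ^ p ^ a = 1 := congrArg Subtype.val
    (orderOf_dvd_iff_pow_eq_one.1 (hb ▸ pow_dvd_pow p hab) : w ^ p ^ a = 1)
  obtain ⟨a, rfl⟩ : ∃ a', a = a' + 1 := Nat.exists_eq_succ_of_ne_zero fun e => hu1 (by simpa [e] using hua)
  by_cases h3 : p = 3 ∧ a = 0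
  · obtain ⟨rfl, rfl⟩ := h3
    rcases hn.eq_or_lt with rfl | h6
    · obtain ⟨ρ, σ, τ, h1, h2, h3⟩ := small5 u.1 w.1 hua hwa hu1 hw1
      exact assemble hp u w id id Function.injective_id Function.injective_id (fun _ => rfl) (fun _ => rfl) ρ σ τ h1 h2 h3
    · obtain ⟨ι, u1, i1, i2, i3, i4⟩ := restrict (β := Fin 6) (j := 2) hp hua hu1 (by norm_num) (Or.inl (by simp))
        (by simp; omega)
      obtain ⟨κ, w1, j1, j2, j3, j4⟩ := restrict (β := Fin 6) (j := 2) hp hwa hw1 (by norm_num) (Or.inl (by simp))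
        (by simp; omega)
      obtain ⟨ρ, σ, τ, h1, h2, h3⟩ := small6 u1 w1 i3 j3 i4 j4
      exact assemble hp u w ι κ i1 j1 i2 j2 ρ σ τ h1 h2 h3
  · haveI : NeZero (p ^ (a + 1)) := ⟨(pow_pos hp.pos _).ne'⟩
    obtain ⟨x, hx⟩ : ∃ x, (u.1 ^ p ^ a) x ≠ x := by
      by_contra h
      have h1 : u ^ p ^ a = 1 := Subtype.ext (Equiv.ext fun x => not_not.1 fun e => h ⟨x, e⟩)
      have := Nat.le_of_dvd (pow_pos hp.pos _) (ha ▸ orderOf_dvd_of_pow_eq_one h1)
      exact absurd this (not_le.2 (Nat.pow_lt_pow_right hp.one_lt (by omega)))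
    let ι : ZMod (p ^ (a + 1)) → Fin n := fun i => (u.1 ^ i.val) x
    have hι : Function.Injective ι := fun i j e =>
      ZMod.val_injective _ (inj_pow hp (by rw [hua]; rfl) hx i.val_lt j.val_lt e)
    have hι' : ∀ i, u.1 (ι i) = ι (Equiv.addRight (1 : ZMod (p ^ (a + 1))) i) := fun i => by
      show u.1 ((u.1 ^ i.val) x) = (u.1 ^ (i + 1).val) x
      have : u.1 ^ (i + 1).val = u.1 ^ (i.val + 1) := by
        rw [pow_eq_pow_iff_modEq]
        refine Nat.ModEq.of_dvd (orderOf_dvd_of_pow_eq_one hua) ((ZMod.natCast_eq_natCast_iff _ _ _).1 ?_)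
        simp
      rw [this, pow_succ' u.1, Perm.mul_apply]
    obtain ⟨κ, w1, j1, j2, j3, j4⟩ := restrict (β := ZMod (p ^ (a + 1))) (j := 1) hp hwa hw1 le_rfl
      (Or.inl (by rw [ZMod.card, one_mul])) (Fintype.card_le_of_injective ι hι)
    obtain ⟨σ, τ, h1, h2, h3⟩ : ∃ σ τ : Perm (ZMod (p ^ (a + 1))), Perm.sign τ = -1 ∧
        Good p (Equiv.addRight (1 : ZMod (p ^ (a + 1)))) (σ * w1 * σ⁻¹) ∧
        Good p (Equiv.addRight (1 : ZMod (p ^ (a + 1)))) (τ * (σ * w1 * σ⁻¹) * τ⁻¹) := by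
      rcases Nat.eq_zero_or_pos a with rfl | h0
      · have h4 : p ≠ 4 := fun e => by rw [e] at hp; exact absurd hp (by norm_num)
        exact prime_case (by omega) w1 j3 j4
      · exact power_case hp3 (by omega) w1 j3 j4
    exact assemble hp u w ι κ hι j1 hι' j2 1 σ τ h1 (by simpa using h2) (by simpa using h3)

theorem Good.swap_conj {G : Type*} [Group G] {p : ℕ} {u w g : G} (h : Good p w (g * u * g⁻¹)) :
    Good p u (g⁻¹ * w * g⁻¹⁻¹) := by
  have h1 := Good.map (MulAut.conj g⁻¹).toMonoidHom (MulAut.conj g⁻¹).injective h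
  have e : (MulAut.conj g⁻¹).toMonoidHom (g * u * g⁻¹) = u := by simp [mul_assoc]
  have e' : (MulAut.conj g⁻¹).toMonoidHom w = g⁻¹ * w * g⁻¹⁻¹ := rfl
  rw [e, e'] at h1
  refine ⟨fun ⟨k, hk⟩ => h1.1 ⟨k, ?_⟩, by rw [Set.pair_comm]; exact h1.2⟩
  rw [← hk]
  exact (SemiconjBy.orderOf_eq u (by simp [SemiconjBy, mul_assoc]))

theorem main {n p : ℕ} (hn : 5 ≤ n) (hp : p.Prime) (hp3 : 3 ≤ p) (u w : alternatingGroup (Fin n)) (hu : u ≠ 1)
    (hw : w ≠ 1) (ha : ∃ a, orderOf u = p ^ a) (hb : ∃ b, orderOf w = p ^ b) :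
    ∃ g : alternatingGroup (Fin n), Good p u (g * w * g⁻¹) := by
  obtain ⟨a, ha⟩ := ha
  obtain ⟨b, hb⟩ := hb
  rcases le_total b a with h | h
  · exact main_le hn hp hp3 u w hu hw ha hb h
  · obtain ⟨g, hg⟩ := main_le hn hp hp3 w u hw hu hb ha h
    exact ⟨g⁻¹, hg.swap_conj⟩

end H82.AF
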